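import Mathlib
import Cfsg.Prelude.Def_Blocks
import Cfsg.Prelude.Def_CharExt
import Cfsg.Agent.Lib.H21.AD.Defs

/-!
# S4892 (p-rational extension in the principal block): common definitions (helper28)

Everything is phrased with functions `G → ℂ` and subgroups of `G` (style of `H21.AD.Defs`):
`sSum p J f` = sum of `f` over the `p`-regular elements of `J`.
Blueprint: `tools/blueprints/S4892.md`.
-/

set_option autoImplicit false

namespace Cfsg.Agent.Lib.H28.NT

open Cfsg.Agent.Lib.H21.AD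

variable {G : Type*} [Group G]

/-- `f` restricted to `H` is an irreducible character and `f = θ` on `N` -/
def IsExt (N : Subgroup G) (θ : G → ℂ) (H : Subgroup G) (f : G → ℂ) : Prop :=
  Cfsg.IsIrrCharacter H (fun y : H => f y) ∧ ∀ n ∈ N, f n = θ n

/-- an extension of `θ` to `J` with nonzero `p`-regular sum (i.e. in the principal block of `J`) -/
def GoodA (p : ℕ) (N : Subgroup G) (θ : G → ℂ) (J : Subgroup G) (f : G → ℂ) : Prop :=
  IsExt N θ J f ∧ sSum p J f ≠ 0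

/-- the canonical extension of `θ` to `H`: principal on every `N⟨c⟩`, `c` a `p`-regular element,
and with determinant trivial on `p`-elements -/
def GoodE (p : ℕ) (N : Subgroup G) (θ : G → ℂ) (H : Subgroup G) (f : G → ℂ) : Prop :=
  IsExt N θ H f ∧
  (∀ c ∈ H, ¬ p ∣ orderOf c → sSum p (N ⊔ Subgroup.zpowers c) f ≠ 0) ∧
  (∀ x : H, (∃ k : ℕ, orderOf x = p ^ k) → Cfsg.detChar (fun y : H => f y) x = 1)

/-- the standing hypotheses -/
structure Hyp (p : ℕ) (M : Ideal Cfsg.AlgInt) (N Q : Subgroup G) (θ : G → ℂ) : Prop where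
  hp : p.Prime
  hM : Cfsg.IsPModular p M
  hQN : Q ≤ N
  hQ : ¬ p ∣ Q.relIndex N
  hcov : ∀ J : Subgroup G, N ≤ J → ¬ p ∣ N.relIndex J → ∀ g ∈ J,
    ∃ n ∈ N, ∃ z ∈ Subgroup.centralizer (Q : Set G), g = n * z
  hirr : Cfsg.IsIrrCharacter N (fun n : N => θ n)
  hinv : ∀ g : G, ∀ n ∈ N, θ (g * n * g⁻¹) = θ n
  hdeg : ∃ d : ℕ, θ 1 = (d : ℂ) ∧ ¬ p ∣ d
  hB : sSum p N θ ≠ 0
  hdet : ∀ x : N, (∃ k : ℕ, orderOf x = p ^ k) → Cfsg.detChar (fun n : N => θ n) x = 1

end Cfsg.Agent.Lib.H28.NT
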