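import Mathlib
import Cfsg.Prelude.Def_Blocks
import Cfsg.Agent.Lib.H21.AD.Defs
import Cfsg.Agent.Lib.H28.NT.Defs
import Cfsg.Agent.Lib.H14.NTHER

/-!
# S4892 piece (PSTEPb) (helper28)
-/

set_option autoImplicit false
open Cfsg.Agent.Lib.H21.AD Cfsg.Agent.Lib.H28.NT

namespace Cfsg.Agent.Lib.H28.NT

variable {G : Type*} [Group G] [Finite G] {p : ℕ} {M : Ideal Cfsg.AlgInt} {N Q : Subgroup G} {θ : G → ℂ}

theorem sSum_congr_on (J : Subgroup G) (f f' : G → ℂ) (h : ∀ g ∈ J, f g = f' g) :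
    sSum p J f = sSum p J f' := by
  classical
  unfold sSum
  refine finsum_congr (fun g => ?_)
  by_cases hg : g ∈ J ∧ ¬ p ∣ orderOf g
  · rw [if_pos hg, if_pos hg, h g hg.1]
  · rw [if_neg hg, if_neg hg]

/-- a `p`-regular element of `H` lies in every normal subgroup of `p`-power index -/
theorem mem_of_pRegular (hp : p.Prime) (K H : Subgroup G) (hnorm : ∀ a ∈ H, ∀ b ∈ K, a * b * a⁻¹ ∈ K)
    (hidx : ∃ a : ℕ, K.relIndex H = p ^ a) (c : G) (hc : c ∈ H) (hreg : ¬ p ∣ orderOf c) : c ∈ K := by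
  haveI hN : (K.subgroupOf H).Normal := ⟨fun n hn g => by
    rw [Subgroup.mem_subgroupOf] at hn ⊢
    simpa using hnorm g g.2 n hn⟩
  obtain ⟨a, ha⟩ := hidx
  have hcard : Nat.card (↥H ⧸ K.subgroupOf H) = p ^ a := by rw [← ha]; rfl
  set q : ↥H ⧸ K.subgroupOf H := QuotientGroup.mk (⟨c, hc⟩ : H) with hq
  have h1 : orderOf q ∣ p ^ a := hcard ▸ orderOf_dvd_natCard q
  have h2 : orderOf q ∣ orderOf c := by
    have h3 : orderOf q ∣ orderOf (⟨c, hc⟩ : H) :=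
      orderOf_map_dvd (QuotientGroup.mk' (K.subgroupOf H)) _
    rwa [Subgroup.orderOf_mk] at h3
  have hcop : Nat.Coprime (orderOf c) (p ^ a) :=
    Nat.Coprime.pow_right a ((Nat.Prime.coprime_iff_not_dvd hp).2 hreg).symm
  have h4 : orderOf q = 1 := Nat.eq_one_of_dvd_coprimes hcop h2 h1
  rw [orderOf_eq_one_iff, hq, QuotientGroup.eq_one_iff, Subgroup.mem_subgroupOf] at h4
  exact h4

/-- (PSTEPb) -/
theorem goodE_of_pstep [N.Normal] (h : Hyp p M N Q θ) (K H : Subgroup G) (hNK : N ≤ K) (hKH : K ≤ H)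
    (hnorm : ∀ a ∈ H, ∀ b ∈ K, a * b * a⁻¹ ∈ K) (hpK : ¬ p ∣ N.relIndex K)
    (hidx : ∃ a : ℕ, K.relIndex H = p ^ a) (f : G → ℂ) (hf : GoodA p N θ K f) (f' : G → ℂ)
    (h1 : Cfsg.IsIrrCharacter H (fun y : H => f' y)) (h2 : ∀ g ∈ K, f' g = f g)
    (h3 : ∀ x : H, (∃ k : ℕ, orderOf x = p ^ k) → Cfsg.detChar (fun y : H => f' y) x = 1) :
    GoodE p N θ H f' := by
  refine ⟨⟨h1, fun n hn => ?_⟩, ?_, h3⟩
  · rw [h2 n (hNK hn)]; exact hf.1.2 n hn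
  · intro c hc hreg
    have hcK : c ∈ K := mem_of_pRegular h.hp K H hnorm hidx c hc hreg
    have hle : N ⊔ Subgroup.zpowers c ≤ K := sup_le hNK ((Subgroup.zpowers_le).2 hcK)
    rw [sSum_congr_on (N ⊔ Subgroup.zpowers c) f' f (fun g hg => h2 g (hle hg))]
    exact Cfsg.Agent.Lib.H14.NT.goodA_zpowers h K hNK hpK f hf c hcK

end Cfsg.Agent.Lib.H28.NT
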