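import Mathlib
import Cfsg.Prelude.Def_Blocks
import Cfsg.Agent.Lib.H21.AD.Defs
import Cfsg.Agent.Lib.H28.NT.Defs
import Cfsg.Agent.Lib.H15.NTNIL
import Cfsg.Agent.Lib.H14.NTSOLF
import Cfsg.Agent.Lib.H28.NT.PSTEPB
import Cfsg.Agent.Lib.H25.NTPSTEPA

/-!
# S4892 piece (EXIST): the canonical extension exists on `E ⊔ N`, `E` nilpotent (helper28)
-/

set_option autoImplicit false
open Cfsg.Agent.Lib.H21.AD Cfsg.Agent.Lib.H28.NT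

namespace Cfsg.Agent.Lib.H28.NT

variable {G : Type*} [Group G] [Finite G] {p : ℕ} {M : Ideal Cfsg.AlgInt} {N Q : Subgroup G} {θ : G → ℂ}

/-- (EXIST) = NIL + SOLF + PSTEPa + PSTEPb -/
theorem exists_goodE [N.Normal] (h : Hyp p M N Q θ) (E : Subgroup G) (hE : Group.IsNilpotent E) :
    ∃ f : G → ℂ, GoodE p N θ (E ⊔ N) f := by
  obtain ⟨K, hNK, hKH, hnorm, hpK, hidx, hsol⟩ := Cfsg.Agent.Lib.H15.NT.exists_pcompl h.hp N E hE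
  obtain ⟨f, hf⟩ := Cfsg.Agent.Lib.H14.NT.exists_goodA h K hNK hpK hsol
  obtain ⟨f', h1, h2, h3⟩ :=
    Cfsg.Agent.Lib.H25.NT.exists_ext_pstep h K (E ⊔ N) hNK hKH hnorm hpK hidx f hf
  exact ⟨f', goodE_of_pstep h K (E ⊔ N) hNK hKH hnorm hpK hidx f hf f' h1 h2 h3⟩

end Cfsg.Agent.Lib.H28.NT
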